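import Groth.Agent.Lib.CoalgH23.Reynolds
import Groth.Agent.Lib.HopfFF23.Range
import Groth.Agent.Lib.RigidRel.Approx
import Groth.Agent.S0607
import Mathlib.RingTheory.Ideal.Quotient.Operations
import Mathlib.LinearAlgebra.TensorProduct.Tower

/-!
# Linear reductivity in exact sequences of affine groups

`isLinearlyReductive_quotient`, `isLinearlyReductive_sub`, `isLinearlyReductive_of_ext`.
-/

set_option autoImplicit false
set_option maxSynthPendingDepth 3

universe u

open HopfRep
open scoped TensorProduct

noncomputable section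

namespace Groth.Agent.ExactLR23

variable {k : Type u} [Field k] {AQ AG AK : Type u}
  [CommRing AQ] [HopfAlgebra k AQ] [CommRing AG] [HopfAlgebra k AG] [CommRing AK] [HopfAlgebra k AK]

theorem isLinearlyReductive_quotient (φ : AQ →ₐc[k] AG) (hφ : Function.Injective φ)
    (hG : IsLinearlyReductive k AG) : IsLinearlyReductive k AQ := by
  obtain ⟨l, h1, hl⟩ := CoalgH23.exists_integral_of_hasFixedLifts (CoalgH23.hasFixedLifts_of_isLinearlyReductive hG)
  refine CoalgH23.isLinearlyReductive_of_integral (l := l ∘ₗ (φ : AQ →ₗ[k] AG))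
    ((congrArg l (map_one φ)).trans h1) fun q => hφ ?_
  have h := hl (φ q)
  rw [← CoalgHomClass.map_comp_comul_apply φ] at h
  rw [AlgHomClass.commutes]
  refine Eq.trans ?_ h
  generalize CoalgebraStruct.comul (R := k) q = z
  induction z using TensorProduct.induction_on with
  | zero => simp
  | tmul a b => simp
  | add a b ha hb => simp only [map_add, ha, hb]

variable (φ : AQ →ₐc[k] AG) (ψ : AG →ₐc[k] AK)

section Galois

variable [Algebra AQ AG] [IsScalarTower k AQ AG]

/-- `a ↦ S a₂ ⊗ a₁`. -/
def galLift : AG →ₐ[k] AG ⊗[AQ] AG :=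
  (Algebra.TensorProduct.lift ((Algebra.TensorProduct.includeRight (R := AQ) (A := AG) (B := AG)).restrictScalars k)
      ((Algebra.TensorProduct.includeLeft (R := AQ) (S := k) (A := AG) (B := AG)).comp (HopfAlgebra.antipodeAlgHom k AG))
      (fun _ _ => Commute.all _ _)).comp (Bialgebra.comulAlgHom k AG)

theorem galLift_eq (hφalg : ∀ q, algebraMap AQ AG q = φ q) (q : AQ) :
    (galLift (k := k) (AQ := AQ)) (φ q) = algebraMap k (AG ⊗[AQ] AG) (CoalgebraStruct.counit (R := k) q) := by
  let e : AQ →ₐ[k] AG ⊗[AQ] AG := (IsScalarTower.toAlgHom k AQ (AG ⊗[AQ] AG))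
  have he : ∀ a, e a = (1 : AG) ⊗ₜ[AQ] (φ a) ∧ e a = (φ a) ⊗ₜ[AQ] (1 : AG) := fun a => by
    rw [← hφalg]
    exact ⟨(Algebra.TensorProduct.algebraMap_apply' a), Algebra.TensorProduct.algebraMap_apply a⟩
  have h : ∀ z : AQ ⊗[k] AQ,
      Algebra.TensorProduct.lift ((Algebra.TensorProduct.includeRight (R := AQ) (A := AG) (B := AG)).restrictScalars k)
        ((Algebra.TensorProduct.includeLeft (R := AQ) (S := k) (A := AG) (B := AG)).comp (HopfAlgebra.antipodeAlgHom k AG))
        (fun _ _ => Commute.all _ _) (TensorProduct.map (φ : AQ →ₗ[k] AG) (φ : AQ →ₗ[k] AG) z) =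
      e (LinearMap.mul' k AQ ((HopfAlgebraStruct.antipode (R := k) (A := AQ)).lTensor AQ z)) := by
    intro z
    induction z using TensorProduct.induction_on with
    | zero => simp
    | add a b ha hb => simp only [map_add, ha, hb]
    | tmul a b =>
      rw [LinearMap.lTensor_tmul, LinearMap.mul'_apply, map_mul, (he a).1,
        (he (HopfAlgebraStruct.antipode (R := k) b)).2]
      rw [HopfFF23.map_antipode φ b]
      rfl
  simp only [galLift, AlgHom.comp_apply, Bialgebra.comulAlgHom_apply]
  rw [← CoalgHomClass.map_comp_comul_apply φ]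
  refine (h _).trans ?_
  rw [HopfAlgebra.mul_antipode_lTensor_comul_apply, AlgHom.commutes]

variable (hψ : Function.Surjective ψ)
  (hker : RingHom.ker (ψ : AG →ₐ[k] AK) = Ideal.map (φ : AQ →ₐ[k] AG) (RingHom.ker (Bialgebra.counitAlgHom k AQ)))
  (hφalg : ∀ q, algebraMap AQ AG q = φ q)

include hψ hker hφalg in
theorem exists_gal : ∃ θ : AK →ₐ[k] AG ⊗[AQ] AG, ∀ c : AG, θ (ψ c) = (galLift (k := k) (AQ := AQ)) c := by
  have hle : ∀ a ∈ RingHom.ker (ψ : AG →ₐ[k] AK), (galLift (k := k) (AQ := AQ)) a = 0 := by
    intro a ha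
    rw [hker] at ha
    refine (Ideal.map_le_iff_le_comap.2 (fun q hq => ?_) :
      Ideal.map (φ : AQ →ₐ[k] AG) (RingHom.ker (Bialgebra.counitAlgHom k AQ)) ≤
        RingHom.ker (galLift (k := k) (AQ := AQ) (AG := AG))) ha
    show (galLift (k := k) (AQ := AQ)) (φ q) = 0
    rw [galLift_eq φ hφalg, show CoalgebraStruct.counit (R := k) q = 0 from hq, map_zero]
  let e := Ideal.quotientKerAlgEquivOfSurjective (f := (ψ : AG →ₐ[k] AK)) hψ
  refine ⟨(Ideal.Quotient.liftₐ _ (galLift (k := k) (AQ := AQ)) hle).comp e.symm.toAlgHom, fun c => ?_⟩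
  have : e.symm (ψ c) = Ideal.Quotient.mk _ c := e.injective (by rw [AlgEquiv.apply_symm_apply]; rfl)
  show Ideal.Quotient.liftₐ _ (galLift (k := k) (AQ := AQ)) hle (e.symm (ψ c)) = _
  rw [this]
  rfl

theorem galLift_counit (a : AG) : Algebra.TensorProduct.lmul' AQ ((galLift (k := k) (AQ := AQ)) a) =
    algebraMap k AG (CoalgebraStruct.counit (R := k) a) := by
  have h : ∀ z : AG ⊗[k] AG, Algebra.TensorProduct.lmul' AQ
      (Algebra.TensorProduct.lift ((Algebra.TensorProduct.includeRight (R := AQ) (A := AG) (B := AG)).restrictScalars k)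
        ((Algebra.TensorProduct.includeLeft (R := AQ) (S := k) (A := AG) (B := AG)).comp (HopfAlgebra.antipodeAlgHom k AG))
        (fun _ _ => Commute.all _ _) z) =
      LinearMap.mul' k AG ((HopfAlgebraStruct.antipode (R := k) (A := AG)).lTensor AG z) := by
    intro z
    induction z using TensorProduct.induction_on with
    | zero => simp
    | add a b ha hb => simp only [map_add, ha, hb]
    | tmul a b => simp [mul_comm]
  exact (h _).trans (by simp)

end Galois

include φ ψ in
theorem isLinearlyReductive_sub [Algebra.FiniteType k AQ] [Algebra.FiniteType k AG]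
    (hφ : Function.Injective φ) (hψ : Function.Surjective ψ)
    (hker : RingHom.ker (ψ : AG →ₐ[k] AK) = Ideal.map (φ : AQ →ₐ[k] AG) (RingHom.ker (Bialgebra.counitAlgHom k AQ)))
    (hG : IsLinearlyReductive k AG) : IsLinearlyReductive k AK := by
  obtain ⟨β, hβ1, hβ⟩ := CoalgH23.exists_right_integral hG
  letI : Algebra AQ AG := ((φ : AQ →ₐ[k] AG) : AQ →+* AG).toAlgebra
  have hφalg : ∀ q, algebraMap AQ AG q = φ q := fun q => rfl
  haveI : IsScalarTower k AQ AG := IsScalarTower.of_algebraMap_eq fun r => (AlgHom.commutes (φ : AQ →ₐ[k] AG) r).symm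
  haveI hff : Module.FaithfullyFlat AQ AG := RingHom.faithfullyFlat_algebraMap_iff.1 (Groth.Agent.S0607.result φ hφ)
  obtain ⟨θ, hθ⟩ := exists_gal φ ψ hψ hker hφalg
  refine CoalgH23.isLinearlyReductive_of_hasFixedLifts fun V _ _ _ _ π hπ hcom => ?_
  -- the twisted diagonal
  let D : AG →ₐ[k] AG ⊗[k] AK := (Algebra.TensorProduct.map (AlgHom.id k AG) (ψ : AG →ₐ[k] AK)).comp
    ((Algebra.TensorProduct.comm k AG AG).toAlgHom.comp (Bialgebra.comulAlgHom k AG))
  have hDφ : ∀ q : AQ, D (φ q) = (φ q) ⊗ₜ[k] (1 : AK) := by
    intro q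
    have hψφ : ∀ b, ψ (φ b) = algebraMap k AK (CoalgebraStruct.counit (R := k) b) := by
      intro b
      have : φ (b - algebraMap k AQ (CoalgebraStruct.counit (R := k) b)) ∈ RingHom.ker (ψ : AG →ₐ[k] AK) := by
        rw [hker]
        refine Ideal.mem_map_of_mem _ ?_
        simp [RingHom.mem_ker]
      rw [RingHom.mem_ker, map_sub, map_sub, sub_eq_zero] at this
      exact this.trans (by simp [AlgHomClass.commutes])
    show Algebra.TensorProduct.map (AlgHom.id k AG) (ψ : AG →ₐ[k] AK)
      (TensorProduct.comm k AG AG (CoalgebraStruct.comul (R := k) (φ q))) = _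
    rw [← CoalgHomClass.map_comp_comul_apply φ]
    have hz : ∀ z : AQ ⊗[k] AQ, Algebra.TensorProduct.map (AlgHom.id k AG) (ψ : AG →ₐ[k] AK)
        (TensorProduct.comm k AG AG (TensorProduct.map (φ : AQ →ₗ[k] AG) (φ : AQ →ₗ[k] AG) z)) =
        (φ (TensorProduct.lid k AQ ((CoalgebraStruct.counit (R := k) (A := AQ)).rTensor AQ z))) ⊗ₜ[k] (1 : AK) := by
      intro z
      induction z using TensorProduct.induction_on with
      | zero => simp
      | add a b ha hb => simp only [map_add, ha, hb, TensorProduct.add_tmul]
      | tmul a b =>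
        show (φ b) ⊗ₜ[k] ψ (φ a) = _
        rw [hψφ, LinearMap.rTensor_tmul, TensorProduct.lid_tmul, map_smul, TensorProduct.smul_tmul,
          Algebra.algebraMap_eq_smul_one]
    refine (hz _).trans ?_
    rw [Coalgebra.rTensor_counit_comul, TensorProduct.lid_tmul, one_smul]
  let DL : AG →ₗ[AQ] AG ⊗[k] AK :=
    { toFun := D
      map_add' := map_add D
      map_smul' := fun q a => by
        rw [Algebra.smul_def, map_mul, hφalg, hDφ, RingHom.id_apply]
        induction D a using TensorProduct.induction_on with
        | zero => simp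
        | tmul x y => rw [Algebra.TensorProduct.tmul_mul_tmul, one_mul, TensorProduct.smul_tmul', Algebra.smul_def, hφalg]
        | add x y hx hy => simp only [smul_add, mul_add, hx, hy] }
  -- the two maps
  let f1 : AG ⊗[k] V →ₗ[AQ] AG ⊗[k] (V ⊗[k] AK) :=
    TensorProduct.AlgebraTensorModule.lTensor AQ AG (Comod.coact (k := k) (A := AK) (V := V))
  let f2 : AG ⊗[k] V →ₗ[AQ] AG ⊗[k] (V ⊗[k] AK) :=
    (TensorProduct.AlgebraTensorModule.lTensor AQ AG (TensorProduct.comm k AK V).toLinearMap) ∘ₗ
      (TensorProduct.AlgebraTensorModule.assoc k k AQ AG AK V).toLinearMap ∘ₗ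
        TensorProduct.AlgebraTensorModule.rTensor k V DL
  let πG : AG ⊗[k] V →ₗ[AQ] AG ⊗[k] k := TensorProduct.AlgebraTensorModule.lTensor AQ AG π
  let Ker := LinearMap.ker (f1 - f2)
  let L : AG ⊗[k] (V ⊗[k] AK) →ₗ[k] (AG ⊗[AQ] AG) ⊗[k] V :=
    TensorProduct.lift (LinearMap.mk₂ k (fun b z =>
      TensorProduct.comm k V (AG ⊗[AQ] AG) ((LinearMap.mul k (AG ⊗[AQ] AG) (b ⊗ₜ[AQ] (1 : AG))).lTensor V
        (θ.toLinearMap.lTensor V z)))
      (fun b b' z => by simp only [TensorProduct.add_tmul, map_add, LinearMap.lTensor_add, LinearMap.add_apply])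
      (fun c b z => by simp only [← TensorProduct.smul_tmul', map_smul, LinearMap.lTensor_smul, LinearMap.smul_apply])
      (fun b z z' => by simp only [map_add])
      (fun c b z => by simp only [map_smul]))
  let R : AG ⊗[k] V →ₗ[k] AG ⊗[AQ] (AG ⊗[k] V) :=
    (TensorProduct.AlgebraTensorModule.assoc k AQ AQ AG AG V).toLinearMap.restrictScalars k ∘ₗ L ∘ₗ
      (Comod.coact (k := k) (A := AK) (V := V)).lTensor AG
  obtain ⟨v₁, hv₁⟩ := hπ 1
  let m : AG ⊗[k] V := (1 : AG) ⊗ₜ[k] v₁
  -- the key identity
  have hkey : ∀ m : AG ⊗[k] V, LinearMap.lTensor AG f1 (R m) = LinearMap.lTensor AG f2 (R m) := by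
    intro m
    induction m using TensorProduct.induction_on with
    | zero => simp
    | add a b ha hb => simp only [map_add, ha, hb]
    | tmul b v =>
      let asm : (AG ⊗[AQ] AG) ⊗[k] (V ⊗[k] AK) →ₗ[k] AG ⊗[AQ] (AG ⊗[k] (V ⊗[k] AK)) :=
        (TensorProduct.AlgebraTensorModule.assoc k AQ AQ AG AG (V ⊗[k] AK)).toLinearMap.restrictScalars k
      let M : (V ⊗[k] AK) ⊗[k] AK →ₗ[k] AG ⊗[AQ] (AG ⊗[k] (V ⊗[k] AK)) :=
        asm ∘ₗ (TensorProduct.comm k (V ⊗[k] AK) (AG ⊗[AQ] AG)).toLinearMap ∘ₗ
          ((LinearMap.mul k (AG ⊗[AQ] AG) (b ⊗ₜ[AQ] (1 : AG))) ∘ₗ θ.toLinearMap).lTensor (V ⊗[k] AK)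
      let H : V ⊗[k] (AK ⊗[k] AK) →ₗ[k] AG ⊗[AQ] (AG ⊗[k] (V ⊗[k] AK)) :=
        M ∘ₗ (TensorProduct.assoc k V AK AK).symm.toLinearMap
      have h1 : LinearMap.lTensor AG f1 (R (b ⊗ₜ[k] v)) =
          H ((CoalgebraStruct.comul (R := k) (A := AK)).lTensor V (Comod.coact (k := k) (A := AK) v)) := by
        have hco := LinearMap.congr_fun (Comod.coassoc (k := k) (A := AK) (V := V)) v
        simp only [LinearMap.comp_apply, LinearEquiv.coe_coe] at hco
        rw [← hco]
        simp only [R, L, H, LinearMap.comp_apply, LinearEquiv.coe_coe, LinearEquiv.symm_apply_apply,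
          LinearMap.lTensor_tmul, TensorProduct.lift.tmul, LinearMap.mk₂_apply, LinearMap.restrictScalars_apply]
        generalize Comod.coact (k := k) (A := AK) v = z
        induction z using TensorProduct.induction_on with
        | zero => simp
        | add a c ha hc => simp only [map_add, ha, hc]
        | tmul a x =>
          simp only [M, asm, LinearMap.lTensor_tmul, LinearMap.rTensor_tmul, LinearMap.comp_apply,
            TensorProduct.comm_tmul, LinearMap.restrictScalars_apply, LinearEquiv.coe_coe, AlgHom.toLinearMap_apply]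
          generalize LinearMap.mul k (AG ⊗[AQ] AG) (b ⊗ₜ[AQ] (1 : AG)) (θ x) = y
          induction y using TensorProduct.induction_on with
          | zero => simp
          | add a c ha hc => simp only [map_add, TensorProduct.add_tmul, ha, hc]
          | tmul c d => simp [f1]
      rw [h1]
      simp only [R, L, LinearMap.comp_apply, LinearEquiv.coe_coe,
        LinearMap.lTensor_tmul, TensorProduct.lift.tmul, LinearMap.mk₂_apply, LinearMap.restrictScalars_apply]
      generalize Comod.coact (k := k) (A := AK) v = z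
      induction z using TensorProduct.induction_on with
      | zero => simp
      | add a c ha hc => simp only [map_add, ha, hc]
      | tmul a x =>
        obtain ⟨c, rfl⟩ := hψ x
        simp only [LinearMap.lTensor_tmul, TensorProduct.comm_tmul, AlgHom.toLinearMap_apply, H, LinearMap.comp_apply,
          LinearEquiv.coe_coe, hθ]
        rw [← CoalgHomClass.map_comp_comul_apply ψ]
        -- both sides factor through the triple comultiplication
        let S := HopfAlgebraStruct.antipode (R := k) (A := AG)
        let F : AG ⊗[k] (AG ⊗[k] AG) →ₗ[k] AG ⊗[AQ] (AG ⊗[k] (V ⊗[k] AK)) :=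
          ((TensorProduct.AlgebraTensorModule.lTensor AQ AG (TensorProduct.mk k V AK a)).lTensor AG).restrictScalars k ∘ₗ
            (TensorProduct.AlgebraTensorModule.assoc k AQ AQ AG AG AK).toLinearMap.restrictScalars k ∘ₗ
              (TensorProduct.comm k AK (AG ⊗[AQ] AG)).toLinearMap ∘ₗ
                TensorProduct.map (ψ : AG →ₗ[k] AK) (LinearMap.mul k (AG ⊗[AQ] AG) (b ⊗ₜ[AQ] (1 : AG)) ∘ₗ
                  (Algebra.TensorProduct.lift
                    ((Algebra.TensorProduct.includeRight (R := AQ) (A := AG) (B := AG)).restrictScalars k)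
                    ((Algebra.TensorProduct.includeLeft (R := AQ) (S := k) (A := AG) (B := AG)).comp
                      (HopfAlgebra.antipodeAlgHom k AG)) (fun _ _ => Commute.all _ _)).toLinearMap)
        have hR : LinearMap.lTensor AG f2 ((TensorProduct.AlgebraTensorModule.assoc k AQ AQ AG AG V)
            (((LinearMap.mul k (AG ⊗[AQ] AG)) (b ⊗ₜ[AQ] (1 : AG)) ((galLift (k := k) (AQ := AQ)) c)) ⊗ₜ[k] a)) =
            F ((TensorProduct.assoc k AG AG AG) ((CoalgebraStruct.comul (R := k) (A := AG)).rTensor AG
              (CoalgebraStruct.comul (R := k) c))) := by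
          simp only [galLift, AlgHom.comp_apply, Bialgebra.comulAlgHom_apply]
          generalize CoalgebraStruct.comul (R := k) c = y
          induction y using TensorProduct.induction_on with
          | zero => simp
          | add p q hp hq => simp only [map_add, TensorProduct.add_tmul, hp, hq]
          | tmul p q =>
            rw [LinearMap.rTensor_tmul]
            have e : LinearMap.lTensor AG f2 ((TensorProduct.AlgebraTensorModule.assoc k AQ AQ AG AG V)
                (((LinearMap.mul k (AG ⊗[AQ] AG)) (b ⊗ₜ[AQ] (1 : AG))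
                  (Algebra.TensorProduct.lift
                    ((Algebra.TensorProduct.includeRight (R := AQ) (A := AG) (B := AG)).restrictScalars k)
                    ((Algebra.TensorProduct.includeLeft (R := AQ) (S := k) (A := AG) (B := AG)).comp
                      (HopfAlgebra.antipodeAlgHom k AG)) (fun _ _ => Commute.all _ _) (p ⊗ₜ[k] q))) ⊗ₜ[k] a)) =
                (b * S q) ⊗ₜ[AQ] f2 (p ⊗ₜ[k] a) := by
              simp [S]
            rw [e]
            simp only [f2, DL, D, LinearMap.comp_apply, TensorProduct.AlgebraTensorModule.rTensor_tmul, LinearMap.coe_mk,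
              AddHom.coe_mk, AlgHom.comp_apply, Bialgebra.comulAlgHom_apply]
            generalize CoalgebraStruct.comul (R := k) p = w
            induction w using TensorProduct.induction_on with
            | zero => simp
            | add p q hp hq => simp only [map_add, TensorProduct.tmul_add, TensorProduct.add_tmul, hp, hq]
            | tmul s t => simp [F, S]
        rw [hR, Coalgebra.coassoc_apply]
        generalize CoalgebraStruct.comul (R := k) c = y
        induction y using TensorProduct.induction_on with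
        | zero => simp
        | add p q hp hq => simp only [map_add, TensorProduct.tmul_add, hp, hq]
        | tmul p q =>
          rw [TensorProduct.map_tmul, LinearMap.lTensor_tmul]
          simp only [F, M, asm, TensorProduct.lift.tmul, LinearMap.mk₂_apply, TensorProduct.assoc_symm_tmul,
            LinearMap.lTensor_tmul, LinearMap.comp_apply, LinearEquiv.coe_coe, TensorProduct.comm_tmul,
            LinearMap.restrictScalars_apply, AlgHom.toLinearMap_apply, TensorProduct.map_tmul, LinearMap.mul_apply']
          rw [show (ψ : AG →ₗ[k] AK) q = ψ q from rfl, show (ψ : AG →ₗ[k] AK) p = ψ p from rfl, hθ]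
          show _ = _
          simp only [galLift, AlgHom.comp_apply, Bialgebra.comulAlgHom_apply]
          generalize (b ⊗ₜ[AQ] (1 : AG)) * _ = y
          induction y using TensorProduct.induction_on with
          | zero => simp
          | add p q hp hq => simp only [map_add, TensorProduct.add_tmul, hp, hq]
          | tmul s t => simp
  -- descend
  have hz : R m ∈ LinearMap.range (LinearMap.lTensor AG Ker.subtype) := by
    have hex : Function.Exact Ker.subtype (f1 - f2) := LinearMap.exact_subtype_ker_map _
    refine (Module.Flat.lTensor_exact AG hex (R m)).1 ?_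
    rw [LinearMap.lTensor_sub, LinearMap.sub_apply, hkey, sub_self]
  obtain ⟨z', hz'⟩ := hz
  let F0 : AG ⊗[k] k := (1 : AG) ⊗ₜ[k] (1 : k)
  have hπR : LinearMap.lTensor AG πG (R m) = (1 : AG) ⊗ₜ[AQ] F0 := by
    have h : ∀ z : V ⊗[k] AK, LinearMap.lTensor AG πG
        ((TensorProduct.AlgebraTensorModule.assoc k AQ AQ AG AG V) (L ((1 : AG) ⊗ₜ[k] z))) =
        (TensorProduct.AlgebraTensorModule.assoc k AQ AQ AG AG k)
          (θ (TensorProduct.lid k AK (π.rTensor AK z)) ⊗ₜ[k] (1 : k)) := by
      intro z
      induction z using TensorProduct.induction_on with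
      | zero => simp [TensorProduct.zero_tmul]
      | add a c ha hc => simp only [map_add, TensorProduct.tmul_add, TensorProduct.add_tmul, ha, hc]
      | tmul a x =>
        simp only [L, TensorProduct.lift.tmul, LinearMap.mk₂_apply, LinearMap.lTensor_tmul, TensorProduct.comm_tmul,
          AlgHom.toLinearMap_apply, LinearMap.mul_apply', Algebra.TensorProduct.one_def.symm, one_mul,
          LinearMap.rTensor_tmul, TensorProduct.lid_tmul, map_smul, TensorProduct.smul_tmul, smul_eq_mul, mul_one]
        generalize θ x = y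
        induction y using TensorProduct.induction_on with
        | zero => simp
        | add p q hp hq => simp only [map_add, TensorProduct.add_tmul, hp, hq]
        | tmul p q => simp [πG]
    refine (h (Comod.coact (k := k) (A := AK) v₁)).trans ?_
    have := LinearMap.congr_fun hcom v₁
    simp only [LinearMap.comp_apply, LinearMap.flip_apply, TensorProduct.mk_apply, hv₁] at this
    rw [this, TensorProduct.lid_tmul, one_smul, map_one, Algebra.TensorProduct.one_def]
    rfl
  obtain ⟨⟨f, hf⟩, hπf⟩ : ∃ f : Ker, πG f = F0 := by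
    let N := LinearMap.range (πG ∘ₗ Ker.subtype)
    suffices N.mkQ F0 = 0 by
      rwa [Submodule.mkQ_apply, Submodule.Quotient.mk_eq_zero] at this
    rw [← Module.FaithfullyFlat.one_tmul_eq_zero_iff (R := AQ) (A := AG) (M := (AG ⊗[k] k) ⧸ N)]
    have : LinearMap.lTensor AG N.mkQ ((1 : AG) ⊗ₜ[AQ] F0) = 0 := by
      rw [← hπR, ← hz', ← LinearMap.lTensor_comp_apply, ← LinearMap.lTensor_comp_apply,
        show (N.mkQ ∘ₗ πG) ∘ₗ Ker.subtype = 0 from
          LinearMap.ext fun x => (Submodule.Quotient.mk_eq_zero N).2 ⟨x, rfl⟩, LinearMap.lTensor_zero]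
      rfl
    exact this
  -- average
  refine ⟨TensorProduct.lid k V (β.rTensor V f), ?_, ?_⟩
  · show Comod.coact (k := k) (A := AK) (TensorProduct.lid k V (β.rTensor V f)) =
      (TensorProduct.lid k V (β.rTensor V f)) ⊗ₜ[k] (1 : AK)
    have h12 : f1 f = f2 f := sub_eq_zero.1 hf
    have h1 : ∀ g : AG ⊗[k] V, TensorProduct.lid k (V ⊗[k] AK) (β.rTensor (V ⊗[k] AK) (f1 g)) =
        Comod.coact (k := k) (A := AK) (TensorProduct.lid k V (β.rTensor V g)) := by
      intro g
      induction g using TensorProduct.induction_on with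
      | zero => simp
      | add a c ha hc => simp only [map_add, ha, hc]
      | tmul a c => simp [f1]
    have h2 : ∀ g : AG ⊗[k] V, TensorProduct.lid k (V ⊗[k] AK) (β.rTensor (V ⊗[k] AK) (f2 g)) =
        (TensorProduct.lid k V (β.rTensor V g)) ⊗ₜ[k] (1 : AK) := by
      intro g
      induction g using TensorProduct.induction_on with
      | zero => simp [TensorProduct.zero_tmul]
      | add a c ha hc => simp only [map_add, ha, hc, TensorProduct.add_tmul]
      | tmul a c =>
        simp only [f2, DL, D, LinearMap.comp_apply, TensorProduct.AlgebraTensorModule.rTensor_tmul, LinearMap.coe_mk,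
          AddHom.coe_mk, AlgHom.comp_apply, Bialgebra.comulAlgHom_apply, LinearEquiv.coe_coe, LinearMap.rTensor_tmul,
          TensorProduct.lid_tmul]
        have hw : ∀ w : AG ⊗[k] AG,
            TensorProduct.lid k (V ⊗[k] AK) (β.rTensor (V ⊗[k] AK)
              ((TensorProduct.AlgebraTensorModule.lTensor AQ AG (TensorProduct.comm k AK V).toLinearMap)
                ((TensorProduct.AlgebraTensorModule.assoc k k AQ AG AK V)
                  (Algebra.TensorProduct.map (AlgHom.id k AG) (ψ : AG →ₐ[k] AK)
                    ((Algebra.TensorProduct.comm k AG AG).toAlgHom w) ⊗ₜ[k] c)))) =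
            c ⊗ₜ[k] ψ (TensorProduct.rid k AG (β.lTensor AG w)) := by
          intro w
          induction w using TensorProduct.induction_on with
          | zero => simp
          | add p q hp hq => simp only [map_add, TensorProduct.add_tmul, TensorProduct.tmul_add, hp, hq]
          | tmul p q => simp
        refine (hw _).trans ?_
        rw [show TensorProduct.rid k AG (β.lTensor AG (CoalgebraStruct.comul (R := k) a)) = β a • (1 : AG) from hβ a,
          map_smul, map_one, TensorProduct.tmul_smul, TensorProduct.smul_tmul']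
    rw [← h1, h12, h2]
  · have h : ∀ g : AG ⊗[k] V, π (TensorProduct.lid k V (β.rTensor V g)) =
        TensorProduct.lid k k (β.rTensor k (πG g)) := by
      intro g
      induction g using TensorProduct.induction_on with
      | zero => simp
      | add a c ha hc => simp only [map_add, ha, hc]
      | tmul a c => simp [πG]
    rw [h, show πG f = F0 from hπf]
    simp [F0, hβ1]

include φ ψ in
theorem isLinearlyReductive_of_ext [Algebra.FiniteType k AQ] [Algebra.FiniteType k AG]
    (hφ : Function.Injective φ) (hψ : Function.Surjective ψ)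
    (hker : RingHom.ker (ψ : AG →ₐ[k] AK) = Ideal.map (φ : AQ →ₐ[k] AG) (RingHom.ker (Bialgebra.counitAlgHom k AQ)))
    (hK : IsLinearlyReductive k AK) (hQ : IsLinearlyReductive k AQ) : IsLinearlyReductive k AG := by
  obtain ⟨lK, hK1, hlK⟩ := CoalgH23.exists_integral_of_hasFixedLifts (CoalgH23.hasFixedLifts_of_isLinearlyReductive hK)
  obtain ⟨lQ, hQ1, hlQ⟩ := CoalgH23.exists_integral_of_hasFixedLifts (CoalgH23.hasFixedLifts_of_isLinearlyReductive hQ)
  letI : Algebra AQ AG := ((φ : AQ →ₐ[k] AG) : AQ →+* AG).toAlgebra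
  have hφalg : ∀ q, algebraMap AQ AG q = φ q := fun q => rfl
  haveI : IsScalarTower k AQ AG := IsScalarTower.of_algebraMap_eq fun r => (AlgHom.commutes (φ : AQ →ₐ[k] AG) r).symm
  haveI hff : Module.FaithfullyFlat AQ AG := RingHom.faithfullyFlat_algebraMap_iff.1 (Groth.Agent.S0607.result φ hφ)
  obtain ⟨θ, hθ⟩ := exists_gal φ ψ hψ hker hφalg
  let E : AG →ₗ[k] AG := (TensorProduct.lid k AG).toLinearMap ∘ₗ
    (lK ∘ₗ (ψ : AG →ₗ[k] AK)).rTensor AG ∘ₗ CoalgebraStruct.comul
  -- left coinvariants come from the quotient
  have hinv : ∀ y : AG, TensorProduct.map (ψ : AG →ₗ[k] AK) LinearMap.id (CoalgebraStruct.comul (R := k) y) =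
      (1 : AK) ⊗ₜ[k] y → ∃ q : AQ, φ q = y := by
    intro y hy
    let T : AK ⊗[k] AG →ₐ[k] AG ⊗[AQ] AG :=
      Algebra.TensorProduct.lift θ ((Algebra.TensorProduct.includeLeft (R := AQ) (S := k) (A := AG) (B := AG)))
        (fun _ _ => Commute.all _ _)
    have h := congrArg T hy
    have h1 : T ((1 : AK) ⊗ₜ[k] y) = y ⊗ₜ[AQ] (1 : AG) := by simp [T]
    let G : AG ⊗[k] (AG ⊗[k] AG) →ₗ[k] AG ⊗[AQ] AG := TensorProduct.lift (LinearMap.mk₂ k
      (fun p z => LinearMap.mul' k AG ((HopfAlgebraStruct.antipode (R := k) (A := AG)).rTensor AG z) ⊗ₜ[AQ] p)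
      (fun p p' z => by simp only [TensorProduct.tmul_add])
      (fun r p z => by rw [TensorProduct.tmul_smul])
      (fun p z z' => by simp only [map_add, TensorProduct.add_tmul])
      (fun r p z => by simp only [map_smul, TensorProduct.smul_tmul']))
    have h2 : T (TensorProduct.map (ψ : AG →ₗ[k] AK) LinearMap.id (CoalgebraStruct.comul (R := k) y)) =
        G (TensorProduct.assoc k AG AG AG ((CoalgebraStruct.comul (R := k) (A := AG)).rTensor AG
          (CoalgebraStruct.comul (R := k) y))) := by
      generalize CoalgebraStruct.comul (R := k) y = z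
      induction z using TensorProduct.induction_on with
      | zero => simp
      | add p q hp hq => simp only [map_add, hp, hq]
      | tmul p q =>
        simp only [T, TensorProduct.map_tmul, LinearMap.id_coe, id_eq, Algebra.TensorProduct.lift_tmul,
          LinearMap.rTensor_tmul]
        rw [show (ψ : AG →ₗ[k] AK) p = ψ p from rfl, hθ]
        simp only [galLift, AlgHom.comp_apply, Bialgebra.comulAlgHom_apply]
        generalize CoalgebraStruct.comul (R := k) p = w
        induction w using TensorProduct.induction_on with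
        | zero => simp
        | add p q hp hq => simp only [map_add, add_mul, TensorProduct.add_tmul, hp, hq]
        | tmul s t => simp [G, mul_comm]
    have h3 : G ((CoalgebraStruct.comul (R := k) (A := AG)).lTensor AG (CoalgebraStruct.comul (R := k) y)) =
        (1 : AG) ⊗ₜ[AQ] y := by
      have hz : ∀ z : AG ⊗[k] AG, G ((CoalgebraStruct.comul (R := k) (A := AG)).lTensor AG z) =
          (1 : AG) ⊗ₜ[AQ] (TensorProduct.rid k AG ((CoalgebraStruct.counit (R := k) (A := AG)).lTensor AG z)) := by
        intro z
        induction z using TensorProduct.induction_on with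
        | zero => simp
        | add p q hp hq => simp only [map_add, TensorProduct.tmul_add, hp, hq]
        | tmul p q =>
          simp only [G, LinearMap.lTensor_tmul, TensorProduct.lift.tmul, LinearMap.mk₂_apply,
            HopfAlgebra.mul_antipode_rTensor_comul_apply, TensorProduct.rid_tmul, Algebra.algebraMap_eq_smul_one]
          rw [← TensorProduct.smul_tmul', TensorProduct.tmul_smul]
      refine (hz _).trans ?_
      rw [Coalgebra.lTensor_counit_comul, TensorProduct.rid_tmul, one_smul]
    rw [h2, Coalgebra.coassoc_apply, h3, h1] at h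
    obtain ⟨q, hq⟩ := RigidRel.exists_algebraMap_eq_of_tmul_comm y h.symm
    exact ⟨q, hq⟩
  have hEΔ : ∀ x, CoalgebraStruct.comul (R := k) (E x) = E.rTensor AG (CoalgebraStruct.comul (R := k) x) := by
    intro x
    let G : AG ⊗[k] (AG ⊗[k] AG) →ₗ[k] AG ⊗[k] AG :=
      (TensorProduct.lid k _).toLinearMap ∘ₗ (lK ∘ₗ (ψ : AG →ₗ[k] AK)).rTensor _
    have h1 : CoalgebraStruct.comul (R := k) (E x) =
        G ((CoalgebraStruct.comul (R := k) (A := AG)).lTensor AG (CoalgebraStruct.comul (R := k) x)) := by
      simp only [E, LinearMap.comp_apply, LinearEquiv.coe_coe]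
      generalize CoalgebraStruct.comul (R := k) x = z
      induction z using TensorProduct.induction_on with
      | zero => simp
      | add p q hp hq => simp only [map_add, hp, hq]
      | tmul p q => simp [G]
    rw [h1, ← Coalgebra.coassoc_apply]
    generalize CoalgebraStruct.comul (R := k) x = z
    induction z using TensorProduct.induction_on with
    | zero => simp
    | add p q hp hq => simp only [map_add, hp, hq]
    | tmul p q =>
      simp only [LinearMap.rTensor_tmul, E, LinearMap.comp_apply, LinearEquiv.coe_coe]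
      generalize CoalgebraStruct.comul (R := k) p = w
      induction w using TensorProduct.induction_on with
      | zero => simp [TensorProduct.zero_tmul]
      | add s t hs ht => simp only [map_add, TensorProduct.add_tmul, hs, ht]
      | tmul s t => simp [G, TensorProduct.smul_tmul']
  have hEinv : ∀ x, ∃ q : AQ, φ q = E x := by
    intro x
    refine hinv _ ?_
    rw [hEΔ]
    have h : ∀ z : AG ⊗[k] AG, TensorProduct.map (ψ : AG →ₗ[k] AK) LinearMap.id (E.rTensor AG z) =
        (1 : AK) ⊗ₜ[k] (TensorProduct.lid k AG ((lK ∘ₗ (ψ : AG →ₗ[k] AK)).rTensor AG z)) := by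
      intro z
      induction z using TensorProduct.induction_on with
      | zero => simp
      | add p q hp hq => simp only [map_add, TensorProduct.tmul_add, hp, hq]
      | tmul p q =>
        have he : ψ (E p) = algebraMap k AK (lK (ψ p)) := by
          refine Eq.trans ?_ (hlK (ψ p))
          simp only [E, LinearMap.comp_apply, LinearEquiv.coe_coe]
          rw [← CoalgHomClass.map_comp_comul_apply ψ]
          generalize CoalgebraStruct.comul (R := k) p = w
          induction w using TensorProduct.induction_on with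
          | zero => simp
          | add s t hs ht => simp only [map_add, hs, ht]
          | tmul s t => simp
        simp only [LinearMap.rTensor_tmul, TensorProduct.map_tmul, LinearMap.id_coe, id_eq, TensorProduct.lid_tmul,
          LinearMap.comp_apply]
        rw [show (ψ : AG →ₗ[k] AK) (E p) = ψ (E p) from rfl, he, Algebra.algebraMap_eq_smul_one, TensorProduct.smul_tmul]
        rfl
    exact (h _).trans rfl
  obtain ⟨r, hr⟩ := (φ : AQ →ₗ[k] AG).exists_leftInverse_of_injective (LinearMap.ker_eq_bot.2 hφ)
  have hr' : ∀ q, r (φ q) = q := fun q => LinearMap.congr_fun hr q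
  refine CoalgH23.isLinearlyReductive_of_integral (l := lQ ∘ₗ r ∘ₗ E) ?_ fun x => ?_
  · have : E 1 = φ 1 := by
      simp only [E, LinearMap.comp_apply, LinearEquiv.coe_coe, Bialgebra.comul_one, Algebra.TensorProduct.one_def,
        LinearMap.rTensor_tmul, TensorProduct.lid_tmul]
      rw [show (ψ : AG →ₗ[k] AK) 1 = ψ 1 from rfl, map_one, hK1, one_smul, map_one]
    rw [LinearMap.comp_apply, LinearMap.comp_apply, this, hr', hQ1]
  · obtain ⟨q, hq⟩ := hEinv x
    rw [LinearMap.rTensor_comp_apply, LinearMap.rTensor_comp_apply, ← hEΔ, ← hq,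
      ← CoalgHomClass.map_comp_comul_apply φ, LinearMap.comp_apply, LinearMap.comp_apply, ← hq, hr',
      show algebraMap k AG (lQ q) = φ (algebraMap k AQ (lQ q)) from (AlgHomClass.commutes φ _).symm, ← hlQ q]
    generalize CoalgebraStruct.comul (R := k) q = z
    induction z using TensorProduct.induction_on with
    | zero => simp
    | add p q hp hq => simp only [map_add, hp, hq]
    | tmul p q => simp [hr']

end Groth.Agent.ExactLR23
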